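import Mathlib
import Cfsg.Agent.H93.Fi23Table.Data

/-!
A checked coset table (generated data).
-/

set_option autoImplicit false
set_option maxRecDepth 100000
set_option linter.all false
set_option Elab.async false

namespace H93
namespace Fi23Table

open Coset

noncomputable section

theorem rel2_0 : data.relOK [2,0,2,0] 0 2880 = true := by decide +kernel

theorem rel2_1 : data.relOK [2,0,2,0] 2880 2880 = true := by decide +kernel

theorem rel2_2 : data.relOK [2,0,2,0] 5760 2880 = true := by decide +kernel

theorem rel2_3 : data.relOK [2,0,2,0] 8640 2880 = true := by decide +kernel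

theorem rel2_4 : data.relOK [2,0,2,0] 11520 2880 = true := by decide +kernel

theorem rel2_5 : data.relOK [2,0,2,0] 14400 2880 = true := by decide +kernel

theorem rel2_6 : data.relOK [2,0,2,0] 17280 2880 = true := by decide +kernel

theorem rel2_7 : data.relOK [2,0,2,0] 20160 2880 = true := by decide +kernel

theorem rel2_8 : data.relOK [2,0,2,0] 23040 2880 = true := by decide +kernel

theorem rel2_9 : data.relOK [2,0,2,0] 25920 2880 = true := by decide +kernel

theorem rel2_10 : data.relOK [2,0,2,0] 28800 2871 = true := by decide +kernel

theorem rel3_0 : data.relOK [3,0,3,0] 0 2880 = true := by decide +kernel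

theorem rel3_1 : data.relOK [3,0,3,0] 2880 2880 = true := by decide +kernel

theorem rel3_2 : data.relOK [3,0,3,0] 5760 2880 = true := by decide +kernel

theorem rel3_3 : data.relOK [3,0,3,0] 8640 2880 = true := by decide +kernel

theorem rel3_4 : data.relOK [3,0,3,0] 11520 2880 = true := by decide +kernel

theorem rel3_5 : data.relOK [3,0,3,0] 14400 2880 = true := by decide +kernel

theorem rel3_6 : data.relOK [3,0,3,0] 17280 2880 = true := by decide +kernel

theorem rel3_7 : data.relOK [3,0,3,0] 20160 2880 = true := by decide +kernel

theorem rel3_8 : data.relOK [3,0,3,0] 23040 2880 = true := by decide +kernel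

theorem rel3_9 : data.relOK [3,0,3,0] 25920 2880 = true := by decide +kernel

theorem rel3_10 : data.relOK [3,0,3,0] 28800 2871 = true := by decide +kernel

theorem rel4_0 : data.relOK [4,0,4,0] 0 2880 = true := by decide +kernel

theorem rel4_1 : data.relOK [4,0,4,0] 2880 2880 = true := by decide +kernel

theorem rel4_2 : data.relOK [4,0,4,0] 5760 2880 = true := by decide +kernel

theorem rel4_3 : data.relOK [4,0,4,0] 8640 2880 = true := by decide +kernel

theorem rel4_4 : data.relOK [4,0,4,0] 11520 2880 = true := by decide +kernel

theorem rel4_5 : data.relOK [4,0,4,0] 14400 2880 = true := by decide +kernel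

theorem rel4_6 : data.relOK [4,0,4,0] 17280 2880 = true := by decide +kernel

theorem rel4_7 : data.relOK [4,0,4,0] 20160 2880 = true := by decide +kernel

theorem rel4_8 : data.relOK [4,0,4,0] 23040 2880 = true := by decide +kernel

theorem rel4_9 : data.relOK [4,0,4,0] 25920 2880 = true := by decide +kernel

theorem rel4_10 : data.relOK [4,0,4,0] 28800 2871 = true := by decide +kernel

theorem rel5_0 : data.relOK [5,0,5,0] 0 2880 = true := by decide +kernel

theorem rel5_1 : data.relOK [5,0,5,0] 2880 2880 = true := by decide +kernel

theorem rel5_2 : data.relOK [5,0,5,0] 5760 2880 = true := by decide +kernel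

theorem rel5_3 : data.relOK [5,0,5,0] 8640 2880 = true := by decide +kernel

theorem rel5_4 : data.relOK [5,0,5,0] 11520 2880 = true := by decide +kernel

theorem rel5_5 : data.relOK [5,0,5,0] 14400 2880 = true := by decide +kernel

theorem rel5_6 : data.relOK [5,0,5,0] 17280 2880 = true := by decide +kernel

theorem rel5_7 : data.relOK [5,0,5,0] 20160 2880 = true := by decide +kernel

theorem rel5_8 : data.relOK [5,0,5,0] 23040 2880 = true := by decide +kernel

theorem rel5_9 : data.relOK [5,0,5,0] 25920 2880 = true := by decide +kernel

theorem rel5_10 : data.relOK [5,0,5,0] 28800 2871 = true := by decide +kernel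

theorem rel6_0 : data.relOK [6,0,6,0] 0 2880 = true := by decide +kernel

theorem rel6_1 : data.relOK [6,0,6,0] 2880 2880 = true := by decide +kernel

theorem rel6_2 : data.relOK [6,0,6,0] 5760 2880 = true := by decide +kernel

theorem rel6_3 : data.relOK [6,0,6,0] 8640 2880 = true := by decide +kernel

end

end Fi23Table
end H93
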