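import Mathlib
import Cfsg.Agent.H93.Fi23Table.Data

/-!
A checked coset table (generated data).
-/

set_option autoImplicit false
set_option maxRecDepth 100000
set_option linter.all false
set_option Elab.async false

namespace H93
namespace Fi23Table

open Coset

noncomputable section

theorem rel6_4 : data.relOK [6,0,6,0] 11520 2880 = true := by decide +kernel

theorem rel6_5 : data.relOK [6,0,6,0] 14400 2880 = true := by decide +kernel

theorem rel6_6 : data.relOK [6,0,6,0] 17280 2880 = true := by decide +kernel

theorem rel6_7 : data.relOK [6,0,6,0] 20160 2880 = true := by decide +kernel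

theorem rel6_8 : data.relOK [6,0,6,0] 23040 2880 = true := by decide +kernel

theorem rel6_9 : data.relOK [6,0,6,0] 25920 2880 = true := by decide +kernel

theorem rel6_10 : data.relOK [6,0,6,0] 28800 2871 = true := by decide +kernel

theorem rel7_0 : data.relOK [7,0,7,0] 0 2880 = true := by decide +kernel

theorem rel7_1 : data.relOK [7,0,7,0] 2880 2880 = true := by decide +kernel

theorem rel7_2 : data.relOK [7,0,7,0] 5760 2880 = true := by decide +kernel

theorem rel7_3 : data.relOK [7,0,7,0] 8640 2880 = true := by decide +kernel

theorem rel7_4 : data.relOK [7,0,7,0] 11520 2880 = true := by decide +kernel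

theorem rel7_5 : data.relOK [7,0,7,0] 14400 2880 = true := by decide +kernel

theorem rel7_6 : data.relOK [7,0,7,0] 17280 2880 = true := by decide +kernel

theorem rel7_7 : data.relOK [7,0,7,0] 20160 2880 = true := by decide +kernel

theorem rel7_8 : data.relOK [7,0,7,0] 23040 2880 = true := by decide +kernel

theorem rel7_9 : data.relOK [7,0,7,0] 25920 2880 = true := by decide +kernel

theorem rel7_10 : data.relOK [7,0,7,0] 28800 2871 = true := by decide +kernel

theorem rel8_0 : data.relOK [8,0,8,0] 0 2880 = true := by decide +kernel

theorem rel8_1 : data.relOK [8,0,8,0] 2880 2880 = true := by decide +kernel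

theorem rel8_2 : data.relOK [8,0,8,0] 5760 2880 = true := by decide +kernel

theorem rel8_3 : data.relOK [8,0,8,0] 8640 2880 = true := by decide +kernel

theorem rel8_4 : data.relOK [8,0,8,0] 11520 2880 = true := by decide +kernel

theorem rel8_5 : data.relOK [8,0,8,0] 14400 2880 = true := by decide +kernel

theorem rel8_6 : data.relOK [8,0,8,0] 17280 2880 = true := by decide +kernel

theorem rel8_7 : data.relOK [8,0,8,0] 20160 2880 = true := by decide +kernel

theorem rel8_8 : data.relOK [8,0,8,0] 23040 2880 = true := by decide +kernel

theorem rel8_9 : data.relOK [8,0,8,0] 25920 2880 = true := by decide +kernel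

theorem rel8_10 : data.relOK [8,0,8,0] 28800 2871 = true := by decide +kernel

theorem rel9_0 : data.relOK [9,0,9,0] 0 2880 = true := by decide +kernel

theorem rel9_1 : data.relOK [9,0,9,0] 2880 2880 = true := by decide +kernel

theorem rel9_2 : data.relOK [9,0,9,0] 5760 2880 = true := by decide +kernel

theorem rel9_3 : data.relOK [9,0,9,0] 8640 2880 = true := by decide +kernel

theorem rel9_4 : data.relOK [9,0,9,0] 11520 2880 = true := by decide +kernel

theorem rel9_5 : data.relOK [9,0,9,0] 14400 2880 = true := by decide +kernel

theorem rel9_6 : data.relOK [9,0,9,0] 17280 2880 = true := by decide +kernel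

theorem rel9_7 : data.relOK [9,0,9,0] 20160 2880 = true := by decide +kernel

theorem rel9_8 : data.relOK [9,0,9,0] 23040 2880 = true := by decide +kernel

theorem rel9_9 : data.relOK [9,0,9,0] 25920 2880 = true := by decide +kernel

theorem rel9_10 : data.relOK [9,0,9,0] 28800 2871 = true := by decide +kernel

theorem rel10_0 : data.relOK [1,1] 0 5279 = true := by decide +kernel

theorem rel10_1 : data.relOK [1,1] 5279 5279 = true := by decide +kernel

theorem rel10_2 : data.relOK [1,1] 10558 5279 = true := by decide +kernel

theorem rel10_3 : data.relOK [1,1] 15837 5279 = true := by decide +kernel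

theorem rel10_4 : data.relOK [1,1] 21116 5279 = true := by decide +kernel

theorem rel10_5 : data.relOK [1,1] 26395 5276 = true := by decide +kernel

theorem rel11_0 : data.relOK [2,1,2,1,2,1] 0 1980 = true := by decide +kernel

theorem rel11_1 : data.relOK [2,1,2,1,2,1] 1980 1980 = true := by decide +kernel

end

end Fi23Table
end H93
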