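import Mathlib
import Cfsg.Agent.H93.Fi23Table.Data

/-!
A checked coset table (generated data).
-/

set_option autoImplicit false
set_option maxRecDepth 100000
set_option linter.all false
set_option Elab.async false

namespace H93
namespace Fi23Table

open Coset

noncomputable section

theorem rel11_2 : data.relOK [2,1,2,1,2,1] 3960 1980 = true := by decide +kernel

theorem rel11_3 : data.relOK [2,1,2,1,2,1] 5940 1980 = true := by decide +kernel

theorem rel11_4 : data.relOK [2,1,2,1,2,1] 7920 1980 = true := by decide +kernel

theorem rel11_5 : data.relOK [2,1,2,1,2,1] 9900 1980 = true := by decide +kernel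

theorem rel11_6 : data.relOK [2,1,2,1,2,1] 11880 1980 = true := by decide +kernel

theorem rel11_7 : data.relOK [2,1,2,1,2,1] 13860 1980 = true := by decide +kernel

theorem rel11_8 : data.relOK [2,1,2,1,2,1] 15840 1980 = true := by decide +kernel

theorem rel11_9 : data.relOK [2,1,2,1,2,1] 17820 1980 = true := by decide +kernel

theorem rel11_10 : data.relOK [2,1,2,1,2,1] 19800 1980 = true := by decide +kernel

theorem rel11_11 : data.relOK [2,1,2,1,2,1] 21780 1980 = true := by decide +kernel

theorem rel11_12 : data.relOK [2,1,2,1,2,1] 23760 1980 = true := by decide +kernel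

theorem rel11_13 : data.relOK [2,1,2,1,2,1] 25740 1980 = true := by decide +kernel

theorem rel11_14 : data.relOK [2,1,2,1,2,1] 27720 1980 = true := by decide +kernel

theorem rel11_15 : data.relOK [2,1,2,1,2,1] 29700 1971 = true := by decide +kernel

theorem rel12_0 : data.relOK [3,1,3,1] 0 2880 = true := by decide +kernel

theorem rel12_1 : data.relOK [3,1,3,1] 2880 2880 = true := by decide +kernel

theorem rel12_2 : data.relOK [3,1,3,1] 5760 2880 = true := by decide +kernel

theorem rel12_3 : data.relOK [3,1,3,1] 8640 2880 = true := by decide +kernel

theorem rel12_4 : data.relOK [3,1,3,1] 11520 2880 = true := by decide +kernel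

theorem rel12_5 : data.relOK [3,1,3,1] 14400 2880 = true := by decide +kernel

theorem rel12_6 : data.relOK [3,1,3,1] 17280 2880 = true := by decide +kernel

theorem rel12_7 : data.relOK [3,1,3,1] 20160 2880 = true := by decide +kernel

theorem rel12_8 : data.relOK [3,1,3,1] 23040 2880 = true := by decide +kernel

theorem rel12_9 : data.relOK [3,1,3,1] 25920 2880 = true := by decide +kernel

theorem rel12_10 : data.relOK [3,1,3,1] 28800 2871 = true := by decide +kernel

theorem rel13_0 : data.relOK [4,1,4,1] 0 2880 = true := by decide +kernel

theorem rel13_1 : data.relOK [4,1,4,1] 2880 2880 = true := by decide +kernel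

theorem rel13_2 : data.relOK [4,1,4,1] 5760 2880 = true := by decide +kernel

theorem rel13_3 : data.relOK [4,1,4,1] 8640 2880 = true := by decide +kernel

theorem rel13_4 : data.relOK [4,1,4,1] 11520 2880 = true := by decide +kernel

theorem rel13_5 : data.relOK [4,1,4,1] 14400 2880 = true := by decide +kernel

theorem rel13_6 : data.relOK [4,1,4,1] 17280 2880 = true := by decide +kernel

theorem rel13_7 : data.relOK [4,1,4,1] 20160 2880 = true := by decide +kernel

theorem rel13_8 : data.relOK [4,1,4,1] 23040 2880 = true := by decide +kernel

theorem rel13_9 : data.relOK [4,1,4,1] 25920 2880 = true := by decide +kernel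

theorem rel13_10 : data.relOK [4,1,4,1] 28800 2871 = true := by decide +kernel

theorem rel14_0 : data.relOK [5,1,5,1] 0 2880 = true := by decide +kernel

theorem rel14_1 : data.relOK [5,1,5,1] 2880 2880 = true := by decide +kernel

theorem rel14_2 : data.relOK [5,1,5,1] 5760 2880 = true := by decide +kernel

theorem rel14_3 : data.relOK [5,1,5,1] 8640 2880 = true := by decide +kernel

theorem rel14_4 : data.relOK [5,1,5,1] 11520 2880 = true := by decide +kernel

theorem rel14_5 : data.relOK [5,1,5,1] 14400 2880 = true := by decide +kernel

theorem rel14_6 : data.relOK [5,1,5,1] 17280 2880 = true := by decide +kernel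

theorem rel14_7 : data.relOK [5,1,5,1] 20160 2880 = true := by decide +kernel

theorem rel14_8 : data.relOK [5,1,5,1] 23040 2880 = true := by decide +kernel

theorem rel14_9 : data.relOK [5,1,5,1] 25920 2880 = true := by decide +kernel

theorem rel14_10 : data.relOK [5,1,5,1] 28800 2871 = true := by decide +kernel

theorem rel15_0 : data.relOK [6,1,6,1] 0 2880 = true := by decide +kernel

end

end Fi23Table
end H93
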