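import Mathlib
import Cfsg.Agent.H93.Fi23Table.Data

/-!
A checked coset table (generated data).
-/

set_option autoImplicit false
set_option maxRecDepth 100000
set_option linter.all false
set_option Elab.async false

namespace H93
namespace Fi23Table

open Coset

noncomputable section

theorem rel15_1 : data.relOK [6,1,6,1] 2880 2880 = true := by decide +kernel

theorem rel15_2 : data.relOK [6,1,6,1] 5760 2880 = true := by decide +kernel

theorem rel15_3 : data.relOK [6,1,6,1] 8640 2880 = true := by decide +kernel

theorem rel15_4 : data.relOK [6,1,6,1] 11520 2880 = true := by decide +kernel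

theorem rel15_5 : data.relOK [6,1,6,1] 14400 2880 = true := by decide +kernel

theorem rel15_6 : data.relOK [6,1,6,1] 17280 2880 = true := by decide +kernel

theorem rel15_7 : data.relOK [6,1,6,1] 20160 2880 = true := by decide +kernel

theorem rel15_8 : data.relOK [6,1,6,1] 23040 2880 = true := by decide +kernel

theorem rel15_9 : data.relOK [6,1,6,1] 25920 2880 = true := by decide +kernel

theorem rel15_10 : data.relOK [6,1,6,1] 28800 2871 = true := by decide +kernel

theorem rel16_0 : data.relOK [7,1,7,1] 0 2880 = true := by decide +kernel

theorem rel16_1 : data.relOK [7,1,7,1] 2880 2880 = true := by decide +kernel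

theorem rel16_2 : data.relOK [7,1,7,1] 5760 2880 = true := by decide +kernel

theorem rel16_3 : data.relOK [7,1,7,1] 8640 2880 = true := by decide +kernel

theorem rel16_4 : data.relOK [7,1,7,1] 11520 2880 = true := by decide +kernel

theorem rel16_5 : data.relOK [7,1,7,1] 14400 2880 = true := by decide +kernel

theorem rel16_6 : data.relOK [7,1,7,1] 17280 2880 = true := by decide +kernel

theorem rel16_7 : data.relOK [7,1,7,1] 20160 2880 = true := by decide +kernel

theorem rel16_8 : data.relOK [7,1,7,1] 23040 2880 = true := by decide +kernel

theorem rel16_9 : data.relOK [7,1,7,1] 25920 2880 = true := by decide +kernel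

theorem rel16_10 : data.relOK [7,1,7,1] 28800 2871 = true := by decide +kernel

theorem rel17_0 : data.relOK [8,1,8,1] 0 2880 = true := by decide +kernel

theorem rel17_1 : data.relOK [8,1,8,1] 2880 2880 = true := by decide +kernel

theorem rel17_2 : data.relOK [8,1,8,1] 5760 2880 = true := by decide +kernel

theorem rel17_3 : data.relOK [8,1,8,1] 8640 2880 = true := by decide +kernel

theorem rel17_4 : data.relOK [8,1,8,1] 11520 2880 = true := by decide +kernel

theorem rel17_5 : data.relOK [8,1,8,1] 14400 2880 = true := by decide +kernel

theorem rel17_6 : data.relOK [8,1,8,1] 17280 2880 = true := by decide +kernel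

theorem rel17_7 : data.relOK [8,1,8,1] 20160 2880 = true := by decide +kernel

theorem rel17_8 : data.relOK [8,1,8,1] 23040 2880 = true := by decide +kernel

theorem rel17_9 : data.relOK [8,1,8,1] 25920 2880 = true := by decide +kernel

theorem rel17_10 : data.relOK [8,1,8,1] 28800 2871 = true := by decide +kernel

theorem rel18_0 : data.relOK [9,1,9,1] 0 2880 = true := by decide +kernel

theorem rel18_1 : data.relOK [9,1,9,1] 2880 2880 = true := by decide +kernel

theorem rel18_2 : data.relOK [9,1,9,1] 5760 2880 = true := by decide +kernel

theorem rel18_3 : data.relOK [9,1,9,1] 8640 2880 = true := by decide +kernel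

theorem rel18_4 : data.relOK [9,1,9,1] 11520 2880 = true := by decide +kernel

theorem rel18_5 : data.relOK [9,1,9,1] 14400 2880 = true := by decide +kernel

theorem rel18_6 : data.relOK [9,1,9,1] 17280 2880 = true := by decide +kernel

theorem rel18_7 : data.relOK [9,1,9,1] 20160 2880 = true := by decide +kernel

theorem rel18_8 : data.relOK [9,1,9,1] 23040 2880 = true := by decide +kernel

theorem rel18_9 : data.relOK [9,1,9,1] 25920 2880 = true := by decide +kernel

theorem rel18_10 : data.relOK [9,1,9,1] 28800 2871 = true := by decide +kernel

theorem rel19_0 : data.relOK [2,2] 0 5279 = true := by decide +kernel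

theorem rel19_1 : data.relOK [2,2] 5279 5279 = true := by decide +kernel

theorem rel19_2 : data.relOK [2,2] 10558 5279 = true := by decide +kernel

theorem rel19_3 : data.relOK [2,2] 15837 5279 = true := by decide +kernel

theorem rel19_4 : data.relOK [2,2] 21116 5279 = true := by decide +kernel

end

end Fi23Table
end H93
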