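import Mathlib
import Cfsg.Agent.H93.Fi23Table.Data

/-!
A checked coset table (generated data).
-/

set_option autoImplicit false
set_option maxRecDepth 100000
set_option linter.all false
set_option Elab.async false

namespace H93
namespace Fi23Table

open Coset

noncomputable section

theorem rel23_9 : data.relOK [6,2,6,2] 25920 2880 = true := by decide +kernel

theorem rel23_10 : data.relOK [6,2,6,2] 28800 2871 = true := by decide +kernel

theorem rel24_0 : data.relOK [7,2,7,2] 0 2880 = true := by decide +kernel

theorem rel24_1 : data.relOK [7,2,7,2] 2880 2880 = true := by decide +kernel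

theorem rel24_2 : data.relOK [7,2,7,2] 5760 2880 = true := by decide +kernel

theorem rel24_3 : data.relOK [7,2,7,2] 8640 2880 = true := by decide +kernel

theorem rel24_4 : data.relOK [7,2,7,2] 11520 2880 = true := by decide +kernel

theorem rel24_5 : data.relOK [7,2,7,2] 14400 2880 = true := by decide +kernel

theorem rel24_6 : data.relOK [7,2,7,2] 17280 2880 = true := by decide +kernel

theorem rel24_7 : data.relOK [7,2,7,2] 20160 2880 = true := by decide +kernel

theorem rel24_8 : data.relOK [7,2,7,2] 23040 2880 = true := by decide +kernel

theorem rel24_9 : data.relOK [7,2,7,2] 25920 2880 = true := by decide +kernel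

theorem rel24_10 : data.relOK [7,2,7,2] 28800 2871 = true := by decide +kernel

theorem rel25_0 : data.relOK [8,2,8,2] 0 2880 = true := by decide +kernel

theorem rel25_1 : data.relOK [8,2,8,2] 2880 2880 = true := by decide +kernel

theorem rel25_2 : data.relOK [8,2,8,2] 5760 2880 = true := by decide +kernel

theorem rel25_3 : data.relOK [8,2,8,2] 8640 2880 = true := by decide +kernel

theorem rel25_4 : data.relOK [8,2,8,2] 11520 2880 = true := by decide +kernel

theorem rel25_5 : data.relOK [8,2,8,2] 14400 2880 = true := by decide +kernel

theorem rel25_6 : data.relOK [8,2,8,2] 17280 2880 = true := by decide +kernel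

theorem rel25_7 : data.relOK [8,2,8,2] 20160 2880 = true := by decide +kernel

theorem rel25_8 : data.relOK [8,2,8,2] 23040 2880 = true := by decide +kernel

theorem rel25_9 : data.relOK [8,2,8,2] 25920 2880 = true := by decide +kernel

theorem rel25_10 : data.relOK [8,2,8,2] 28800 2871 = true := by decide +kernel

theorem rel26_0 : data.relOK [9,2,9,2] 0 2880 = true := by decide +kernel

theorem rel26_1 : data.relOK [9,2,9,2] 2880 2880 = true := by decide +kernel

theorem rel26_2 : data.relOK [9,2,9,2] 5760 2880 = true := by decide +kernel

theorem rel26_3 : data.relOK [9,2,9,2] 8640 2880 = true := by decide +kernel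

theorem rel26_4 : data.relOK [9,2,9,2] 11520 2880 = true := by decide +kernel

theorem rel26_5 : data.relOK [9,2,9,2] 14400 2880 = true := by decide +kernel

theorem rel26_6 : data.relOK [9,2,9,2] 17280 2880 = true := by decide +kernel

theorem rel26_7 : data.relOK [9,2,9,2] 20160 2880 = true := by decide +kernel

theorem rel26_8 : data.relOK [9,2,9,2] 23040 2880 = true := by decide +kernel

theorem rel26_9 : data.relOK [9,2,9,2] 25920 2880 = true := by decide +kernel

theorem rel26_10 : data.relOK [9,2,9,2] 28800 2871 = true := by decide +kernel

theorem rel27_0 : data.relOK [3,3] 0 5279 = true := by decide +kernel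

theorem rel27_1 : data.relOK [3,3] 5279 5279 = true := by decide +kernel

theorem rel27_2 : data.relOK [3,3] 10558 5279 = true := by decide +kernel

theorem rel27_3 : data.relOK [3,3] 15837 5279 = true := by decide +kernel

theorem rel27_4 : data.relOK [3,3] 21116 5279 = true := by decide +kernel

theorem rel27_5 : data.relOK [3,3] 26395 5276 = true := by decide +kernel

theorem rel28_0 : data.relOK [4,3,4,3,4,3] 0 1980 = true := by decide +kernel

theorem rel28_1 : data.relOK [4,3,4,3,4,3] 1980 1980 = true := by decide +kernel

theorem rel28_2 : data.relOK [4,3,4,3,4,3] 3960 1980 = true := by decide +kernel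

theorem rel28_3 : data.relOK [4,3,4,3,4,3] 5940 1980 = true := by decide +kernel

theorem rel28_4 : data.relOK [4,3,4,3,4,3] 7920 1980 = true := by decide +kernel

theorem rel28_5 : data.relOK [4,3,4,3,4,3] 9900 1980 = true := by decide +kernel

theorem rel28_6 : data.relOK [4,3,4,3,4,3] 11880 1980 = true := by decide +kernel

end

end Fi23Table
end H93
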