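import Mathlib
import Cfsg.Agent.H93.Fi23Table.Data

/-!
A checked coset table (generated data).
-/

set_option autoImplicit false
set_option maxRecDepth 100000
set_option linter.all false
set_option Elab.async false

namespace H93
namespace Fi23Table

open Coset

noncomputable section

theorem rel28_7 : data.relOK [4,3,4,3,4,3] 13860 1980 = true := by decide +kernel

theorem rel28_8 : data.relOK [4,3,4,3,4,3] 15840 1980 = true := by decide +kernel

theorem rel28_9 : data.relOK [4,3,4,3,4,3] 17820 1980 = true := by decide +kernel

theorem rel28_10 : data.relOK [4,3,4,3,4,3] 19800 1980 = true := by decide +kernel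

theorem rel28_11 : data.relOK [4,3,4,3,4,3] 21780 1980 = true := by decide +kernel

theorem rel28_12 : data.relOK [4,3,4,3,4,3] 23760 1980 = true := by decide +kernel

theorem rel28_13 : data.relOK [4,3,4,3,4,3] 25740 1980 = true := by decide +kernel

theorem rel28_14 : data.relOK [4,3,4,3,4,3] 27720 1980 = true := by decide +kernel

theorem rel28_15 : data.relOK [4,3,4,3,4,3] 29700 1971 = true := by decide +kernel

theorem rel29_0 : data.relOK [5,3,5,3] 0 2880 = true := by decide +kernel

theorem rel29_1 : data.relOK [5,3,5,3] 2880 2880 = true := by decide +kernel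

theorem rel29_2 : data.relOK [5,3,5,3] 5760 2880 = true := by decide +kernel

theorem rel29_3 : data.relOK [5,3,5,3] 8640 2880 = true := by decide +kernel

theorem rel29_4 : data.relOK [5,3,5,3] 11520 2880 = true := by decide +kernel

theorem rel29_5 : data.relOK [5,3,5,3] 14400 2880 = true := by decide +kernel

theorem rel29_6 : data.relOK [5,3,5,3] 17280 2880 = true := by decide +kernel

theorem rel29_7 : data.relOK [5,3,5,3] 20160 2880 = true := by decide +kernel

theorem rel29_8 : data.relOK [5,3,5,3] 23040 2880 = true := by decide +kernel

theorem rel29_9 : data.relOK [5,3,5,3] 25920 2880 = true := by decide +kernel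

theorem rel29_10 : data.relOK [5,3,5,3] 28800 2871 = true := by decide +kernel

theorem rel30_0 : data.relOK [6,3,6,3] 0 2880 = true := by decide +kernel

theorem rel30_1 : data.relOK [6,3,6,3] 2880 2880 = true := by decide +kernel

theorem rel30_2 : data.relOK [6,3,6,3] 5760 2880 = true := by decide +kernel

theorem rel30_3 : data.relOK [6,3,6,3] 8640 2880 = true := by decide +kernel

theorem rel30_4 : data.relOK [6,3,6,3] 11520 2880 = true := by decide +kernel

theorem rel30_5 : data.relOK [6,3,6,3] 14400 2880 = true := by decide +kernel

theorem rel30_6 : data.relOK [6,3,6,3] 17280 2880 = true := by decide +kernel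

theorem rel30_7 : data.relOK [6,3,6,3] 20160 2880 = true := by decide +kernel

theorem rel30_8 : data.relOK [6,3,6,3] 23040 2880 = true := by decide +kernel

theorem rel30_9 : data.relOK [6,3,6,3] 25920 2880 = true := by decide +kernel

theorem rel30_10 : data.relOK [6,3,6,3] 28800 2871 = true := by decide +kernel

theorem rel31_0 : data.relOK [7,3,7,3] 0 2880 = true := by decide +kernel

theorem rel31_1 : data.relOK [7,3,7,3] 2880 2880 = true := by decide +kernel

theorem rel31_2 : data.relOK [7,3,7,3] 5760 2880 = true := by decide +kernel

theorem rel31_3 : data.relOK [7,3,7,3] 8640 2880 = true := by decide +kernel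

theorem rel31_4 : data.relOK [7,3,7,3] 11520 2880 = true := by decide +kernel

theorem rel31_5 : data.relOK [7,3,7,3] 14400 2880 = true := by decide +kernel

theorem rel31_6 : data.relOK [7,3,7,3] 17280 2880 = true := by decide +kernel

theorem rel31_7 : data.relOK [7,3,7,3] 20160 2880 = true := by decide +kernel

theorem rel31_8 : data.relOK [7,3,7,3] 23040 2880 = true := by decide +kernel

theorem rel31_9 : data.relOK [7,3,7,3] 25920 2880 = true := by decide +kernel

theorem rel31_10 : data.relOK [7,3,7,3] 28800 2871 = true := by decide +kernel

theorem rel32_0 : data.relOK [8,3,8,3,8,3] 0 1980 = true := by decide +kernel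

theorem rel32_1 : data.relOK [8,3,8,3,8,3] 1980 1980 = true := by decide +kernel

theorem rel32_2 : data.relOK [8,3,8,3,8,3] 3960 1980 = true := by decide +kernel

theorem rel32_3 : data.relOK [8,3,8,3,8,3] 5940 1980 = true := by decide +kernel

theorem rel32_4 : data.relOK [8,3,8,3,8,3] 7920 1980 = true := by decide +kernel

theorem rel32_5 : data.relOK [8,3,8,3,8,3] 9900 1980 = true := by decide +kernel

end

end Fi23Table
end H93
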