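import Mathlib
import Cfsg.Agent.H93.Fi23Table.Data

/-!
A checked coset table (generated data).
-/

set_option autoImplicit false
set_option maxRecDepth 100000
set_option linter.all false
set_option Elab.async false

namespace H93
namespace Fi23Table

open Coset

noncomputable section

theorem rel32_6 : data.relOK [8,3,8,3,8,3] 11880 1980 = true := by decide +kernel

theorem rel32_7 : data.relOK [8,3,8,3,8,3] 13860 1980 = true := by decide +kernel

theorem rel32_8 : data.relOK [8,3,8,3,8,3] 15840 1980 = true := by decide +kernel

theorem rel32_9 : data.relOK [8,3,8,3,8,3] 17820 1980 = true := by decide +kernel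

theorem rel32_10 : data.relOK [8,3,8,3,8,3] 19800 1980 = true := by decide +kernel

theorem rel32_11 : data.relOK [8,3,8,3,8,3] 21780 1980 = true := by decide +kernel

theorem rel32_12 : data.relOK [8,3,8,3,8,3] 23760 1980 = true := by decide +kernel

theorem rel32_13 : data.relOK [8,3,8,3,8,3] 25740 1980 = true := by decide +kernel

theorem rel32_14 : data.relOK [8,3,8,3,8,3] 27720 1980 = true := by decide +kernel

theorem rel32_15 : data.relOK [8,3,8,3,8,3] 29700 1971 = true := by decide +kernel

theorem rel33_0 : data.relOK [9,3,9,3] 0 2880 = true := by decide +kernel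

theorem rel33_1 : data.relOK [9,3,9,3] 2880 2880 = true := by decide +kernel

theorem rel33_2 : data.relOK [9,3,9,3] 5760 2880 = true := by decide +kernel

theorem rel33_3 : data.relOK [9,3,9,3] 8640 2880 = true := by decide +kernel

theorem rel33_4 : data.relOK [9,3,9,3] 11520 2880 = true := by decide +kernel

theorem rel33_5 : data.relOK [9,3,9,3] 14400 2880 = true := by decide +kernel

theorem rel33_6 : data.relOK [9,3,9,3] 17280 2880 = true := by decide +kernel

theorem rel33_7 : data.relOK [9,3,9,3] 20160 2880 = true := by decide +kernel

theorem rel33_8 : data.relOK [9,3,9,3] 23040 2880 = true := by decide +kernel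

theorem rel33_9 : data.relOK [9,3,9,3] 25920 2880 = true := by decide +kernel

theorem rel33_10 : data.relOK [9,3,9,3] 28800 2871 = true := by decide +kernel

theorem rel34_0 : data.relOK [4,4] 0 5279 = true := by decide +kernel

theorem rel34_1 : data.relOK [4,4] 5279 5279 = true := by decide +kernel

theorem rel34_2 : data.relOK [4,4] 10558 5279 = true := by decide +kernel

theorem rel34_3 : data.relOK [4,4] 15837 5279 = true := by decide +kernel

theorem rel34_4 : data.relOK [4,4] 21116 5279 = true := by decide +kernel

theorem rel34_5 : data.relOK [4,4] 26395 5276 = true := by decide +kernel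

theorem rel35_0 : data.relOK [5,4,5,4,5,4] 0 1980 = true := by decide +kernel

theorem rel35_1 : data.relOK [5,4,5,4,5,4] 1980 1980 = true := by decide +kernel

theorem rel35_2 : data.relOK [5,4,5,4,5,4] 3960 1980 = true := by decide +kernel

theorem rel35_3 : data.relOK [5,4,5,4,5,4] 5940 1980 = true := by decide +kernel

theorem rel35_4 : data.relOK [5,4,5,4,5,4] 7920 1980 = true := by decide +kernel

theorem rel35_5 : data.relOK [5,4,5,4,5,4] 9900 1980 = true := by decide +kernel

theorem rel35_6 : data.relOK [5,4,5,4,5,4] 11880 1980 = true := by decide +kernel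

theorem rel35_7 : data.relOK [5,4,5,4,5,4] 13860 1980 = true := by decide +kernel

theorem rel35_8 : data.relOK [5,4,5,4,5,4] 15840 1980 = true := by decide +kernel

theorem rel35_9 : data.relOK [5,4,5,4,5,4] 17820 1980 = true := by decide +kernel

theorem rel35_10 : data.relOK [5,4,5,4,5,4] 19800 1980 = true := by decide +kernel

theorem rel35_11 : data.relOK [5,4,5,4,5,4] 21780 1980 = true := by decide +kernel

theorem rel35_12 : data.relOK [5,4,5,4,5,4] 23760 1980 = true := by decide +kernel

theorem rel35_13 : data.relOK [5,4,5,4,5,4] 25740 1980 = true := by decide +kernel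

theorem rel35_14 : data.relOK [5,4,5,4,5,4] 27720 1980 = true := by decide +kernel

theorem rel35_15 : data.relOK [5,4,5,4,5,4] 29700 1971 = true := by decide +kernel

theorem rel36_0 : data.relOK [6,4,6,4] 0 2880 = true := by decide +kernel

theorem rel36_1 : data.relOK [6,4,6,4] 2880 2880 = true := by decide +kernel

theorem rel36_2 : data.relOK [6,4,6,4] 5760 2880 = true := by decide +kernel

theorem rel36_3 : data.relOK [6,4,6,4] 8640 2880 = true := by decide +kernel

theorem rel36_4 : data.relOK [6,4,6,4] 11520 2880 = true := by decide +kernel

end

end Fi23Table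
end H93
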