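import Mathlib
import Cfsg.Agent.H93.Fi23Table.Data

/-!
A checked coset table (generated data).
-/

set_option autoImplicit false
set_option maxRecDepth 100000
set_option linter.all false
set_option Elab.async false

namespace H93
namespace Fi23Table

open Coset

noncomputable section

theorem rel36_5 : data.relOK [6,4,6,4] 14400 2880 = true := by decide +kernel

theorem rel36_6 : data.relOK [6,4,6,4] 17280 2880 = true := by decide +kernel

theorem rel36_7 : data.relOK [6,4,6,4] 20160 2880 = true := by decide +kernel

theorem rel36_8 : data.relOK [6,4,6,4] 23040 2880 = true := by decide +kernel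

theorem rel36_9 : data.relOK [6,4,6,4] 25920 2880 = true := by decide +kernel

theorem rel36_10 : data.relOK [6,4,6,4] 28800 2871 = true := by decide +kernel

theorem rel37_0 : data.relOK [7,4,7,4] 0 2880 = true := by decide +kernel

theorem rel37_1 : data.relOK [7,4,7,4] 2880 2880 = true := by decide +kernel

theorem rel37_2 : data.relOK [7,4,7,4] 5760 2880 = true := by decide +kernel

theorem rel37_3 : data.relOK [7,4,7,4] 8640 2880 = true := by decide +kernel

theorem rel37_4 : data.relOK [7,4,7,4] 11520 2880 = true := by decide +kernel

theorem rel37_5 : data.relOK [7,4,7,4] 14400 2880 = true := by decide +kernel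

theorem rel37_6 : data.relOK [7,4,7,4] 17280 2880 = true := by decide +kernel

theorem rel37_7 : data.relOK [7,4,7,4] 20160 2880 = true := by decide +kernel

theorem rel37_8 : data.relOK [7,4,7,4] 23040 2880 = true := by decide +kernel

theorem rel37_9 : data.relOK [7,4,7,4] 25920 2880 = true := by decide +kernel

theorem rel37_10 : data.relOK [7,4,7,4] 28800 2871 = true := by decide +kernel

theorem rel38_0 : data.relOK [8,4,8,4] 0 2880 = true := by decide +kernel

theorem rel38_1 : data.relOK [8,4,8,4] 2880 2880 = true := by decide +kernel

theorem rel38_2 : data.relOK [8,4,8,4] 5760 2880 = true := by decide +kernel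

theorem rel38_3 : data.relOK [8,4,8,4] 8640 2880 = true := by decide +kernel

theorem rel38_4 : data.relOK [8,4,8,4] 11520 2880 = true := by decide +kernel

theorem rel38_5 : data.relOK [8,4,8,4] 14400 2880 = true := by decide +kernel

theorem rel38_6 : data.relOK [8,4,8,4] 17280 2880 = true := by decide +kernel

theorem rel38_7 : data.relOK [8,4,8,4] 20160 2880 = true := by decide +kernel

theorem rel38_8 : data.relOK [8,4,8,4] 23040 2880 = true := by decide +kernel

theorem rel38_9 : data.relOK [8,4,8,4] 25920 2880 = true := by decide +kernel

theorem rel38_10 : data.relOK [8,4,8,4] 28800 2871 = true := by decide +kernel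

theorem rel39_0 : data.relOK [9,4,9,4] 0 2880 = true := by decide +kernel

theorem rel39_1 : data.relOK [9,4,9,4] 2880 2880 = true := by decide +kernel

theorem rel39_2 : data.relOK [9,4,9,4] 5760 2880 = true := by decide +kernel

theorem rel39_3 : data.relOK [9,4,9,4] 8640 2880 = true := by decide +kernel

theorem rel39_4 : data.relOK [9,4,9,4] 11520 2880 = true := by decide +kernel

theorem rel39_5 : data.relOK [9,4,9,4] 14400 2880 = true := by decide +kernel

theorem rel39_6 : data.relOK [9,4,9,4] 17280 2880 = true := by decide +kernel

theorem rel39_7 : data.relOK [9,4,9,4] 20160 2880 = true := by decide +kernel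

theorem rel39_8 : data.relOK [9,4,9,4] 23040 2880 = true := by decide +kernel

theorem rel39_9 : data.relOK [9,4,9,4] 25920 2880 = true := by decide +kernel

theorem rel39_10 : data.relOK [9,4,9,4] 28800 2871 = true := by decide +kernel

theorem rel40_0 : data.relOK [5,5] 0 5279 = true := by decide +kernel

theorem rel40_1 : data.relOK [5,5] 5279 5279 = true := by decide +kernel

theorem rel40_2 : data.relOK [5,5] 10558 5279 = true := by decide +kernel

theorem rel40_3 : data.relOK [5,5] 15837 5279 = true := by decide +kernel

theorem rel40_4 : data.relOK [5,5] 21116 5279 = true := by decide +kernel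

theorem rel40_5 : data.relOK [5,5] 26395 5276 = true := by decide +kernel

theorem rel41_0 : data.relOK [6,5,6,5,6,5] 0 1980 = true := by decide +kernel

theorem rel41_1 : data.relOK [6,5,6,5,6,5] 1980 1980 = true := by decide +kernel

theorem rel41_2 : data.relOK [6,5,6,5,6,5] 3960 1980 = true := by decide +kernel

end

end Fi23Table
end H93
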