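import Mathlib
import Cfsg.Agent.H93.Fi23Table.Data

/-!
A checked coset table (generated data).
-/

set_option autoImplicit false
set_option maxRecDepth 100000
set_option linter.all false
set_option Elab.async false

namespace H93
namespace Fi23Table

open Coset

noncomputable section

theorem rel41_3 : data.relOK [6,5,6,5,6,5] 5940 1980 = true := by decide +kernel

theorem rel41_4 : data.relOK [6,5,6,5,6,5] 7920 1980 = true := by decide +kernel

theorem rel41_5 : data.relOK [6,5,6,5,6,5] 9900 1980 = true := by decide +kernel

theorem rel41_6 : data.relOK [6,5,6,5,6,5] 11880 1980 = true := by decide +kernel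

theorem rel41_7 : data.relOK [6,5,6,5,6,5] 13860 1980 = true := by decide +kernel

theorem rel41_8 : data.relOK [6,5,6,5,6,5] 15840 1980 = true := by decide +kernel

theorem rel41_9 : data.relOK [6,5,6,5,6,5] 17820 1980 = true := by decide +kernel

theorem rel41_10 : data.relOK [6,5,6,5,6,5] 19800 1980 = true := by decide +kernel

theorem rel41_11 : data.relOK [6,5,6,5,6,5] 21780 1980 = true := by decide +kernel

theorem rel41_12 : data.relOK [6,5,6,5,6,5] 23760 1980 = true := by decide +kernel

theorem rel41_13 : data.relOK [6,5,6,5,6,5] 25740 1980 = true := by decide +kernel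

theorem rel41_14 : data.relOK [6,5,6,5,6,5] 27720 1980 = true := by decide +kernel

theorem rel41_15 : data.relOK [6,5,6,5,6,5] 29700 1971 = true := by decide +kernel

theorem rel42_0 : data.relOK [7,5,7,5] 0 2880 = true := by decide +kernel

theorem rel42_1 : data.relOK [7,5,7,5] 2880 2880 = true := by decide +kernel

theorem rel42_2 : data.relOK [7,5,7,5] 5760 2880 = true := by decide +kernel

theorem rel42_3 : data.relOK [7,5,7,5] 8640 2880 = true := by decide +kernel

theorem rel42_4 : data.relOK [7,5,7,5] 11520 2880 = true := by decide +kernel

theorem rel42_5 : data.relOK [7,5,7,5] 14400 2880 = true := by decide +kernel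

theorem rel42_6 : data.relOK [7,5,7,5] 17280 2880 = true := by decide +kernel

theorem rel42_7 : data.relOK [7,5,7,5] 20160 2880 = true := by decide +kernel

theorem rel42_8 : data.relOK [7,5,7,5] 23040 2880 = true := by decide +kernel

theorem rel42_9 : data.relOK [7,5,7,5] 25920 2880 = true := by decide +kernel

theorem rel42_10 : data.relOK [7,5,7,5] 28800 2871 = true := by decide +kernel

theorem rel43_0 : data.relOK [8,5,8,5] 0 2880 = true := by decide +kernel

theorem rel43_1 : data.relOK [8,5,8,5] 2880 2880 = true := by decide +kernel

theorem rel43_2 : data.relOK [8,5,8,5] 5760 2880 = true := by decide +kernel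

theorem rel43_3 : data.relOK [8,5,8,5] 8640 2880 = true := by decide +kernel

theorem rel43_4 : data.relOK [8,5,8,5] 11520 2880 = true := by decide +kernel

theorem rel43_5 : data.relOK [8,5,8,5] 14400 2880 = true := by decide +kernel

theorem rel43_6 : data.relOK [8,5,8,5] 17280 2880 = true := by decide +kernel

theorem rel43_7 : data.relOK [8,5,8,5] 20160 2880 = true := by decide +kernel

theorem rel43_8 : data.relOK [8,5,8,5] 23040 2880 = true := by decide +kernel

theorem rel43_9 : data.relOK [8,5,8,5] 25920 2880 = true := by decide +kernel

theorem rel43_10 : data.relOK [8,5,8,5] 28800 2871 = true := by decide +kernel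

theorem rel44_0 : data.relOK [9,5,9,5] 0 2880 = true := by decide +kernel

theorem rel44_1 : data.relOK [9,5,9,5] 2880 2880 = true := by decide +kernel

theorem rel44_2 : data.relOK [9,5,9,5] 5760 2880 = true := by decide +kernel

theorem rel44_3 : data.relOK [9,5,9,5] 8640 2880 = true := by decide +kernel

theorem rel44_4 : data.relOK [9,5,9,5] 11520 2880 = true := by decide +kernel

theorem rel44_5 : data.relOK [9,5,9,5] 14400 2880 = true := by decide +kernel

theorem rel44_6 : data.relOK [9,5,9,5] 17280 2880 = true := by decide +kernel

theorem rel44_7 : data.relOK [9,5,9,5] 20160 2880 = true := by decide +kernel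

theorem rel44_8 : data.relOK [9,5,9,5] 23040 2880 = true := by decide +kernel

theorem rel44_9 : data.relOK [9,5,9,5] 25920 2880 = true := by decide +kernel

theorem rel44_10 : data.relOK [9,5,9,5] 28800 2871 = true := by decide +kernel

theorem rel45_0 : data.relOK [6,6] 0 5279 = true := by decide +kernel

theorem rel45_1 : data.relOK [6,6] 5279 5279 = true := by decide +kernel

end

end Fi23Table
end H93
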