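import Mathlib
import Cfsg.Agent.H93.Fi23Table.Data

/-!
A checked coset table (generated data).
-/

set_option autoImplicit false
set_option maxRecDepth 100000
set_option linter.all false
set_option Elab.async false

namespace H93
namespace Fi23Table

open Coset

noncomputable section

theorem rel45_2 : data.relOK [6,6] 10558 5279 = true := by decide +kernel

theorem rel45_3 : data.relOK [6,6] 15837 5279 = true := by decide +kernel

theorem rel45_4 : data.relOK [6,6] 21116 5279 = true := by decide +kernel

theorem rel45_5 : data.relOK [6,6] 26395 5276 = true := by decide +kernel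

theorem rel46_0 : data.relOK [7,6,7,6,7,6] 0 1980 = true := by decide +kernel

theorem rel46_1 : data.relOK [7,6,7,6,7,6] 1980 1980 = true := by decide +kernel

theorem rel46_2 : data.relOK [7,6,7,6,7,6] 3960 1980 = true := by decide +kernel

theorem rel46_3 : data.relOK [7,6,7,6,7,6] 5940 1980 = true := by decide +kernel

theorem rel46_4 : data.relOK [7,6,7,6,7,6] 7920 1980 = true := by decide +kernel

theorem rel46_5 : data.relOK [7,6,7,6,7,6] 9900 1980 = true := by decide +kernel

theorem rel46_6 : data.relOK [7,6,7,6,7,6] 11880 1980 = true := by decide +kernel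

theorem rel46_7 : data.relOK [7,6,7,6,7,6] 13860 1980 = true := by decide +kernel

theorem rel46_8 : data.relOK [7,6,7,6,7,6] 15840 1980 = true := by decide +kernel

theorem rel46_9 : data.relOK [7,6,7,6,7,6] 17820 1980 = true := by decide +kernel

theorem rel46_10 : data.relOK [7,6,7,6,7,6] 19800 1980 = true := by decide +kernel

theorem rel46_11 : data.relOK [7,6,7,6,7,6] 21780 1980 = true := by decide +kernel

theorem rel46_12 : data.relOK [7,6,7,6,7,6] 23760 1980 = true := by decide +kernel

theorem rel46_13 : data.relOK [7,6,7,6,7,6] 25740 1980 = true := by decide +kernel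

theorem rel46_14 : data.relOK [7,6,7,6,7,6] 27720 1980 = true := by decide +kernel

theorem rel46_15 : data.relOK [7,6,7,6,7,6] 29700 1971 = true := by decide +kernel

theorem rel47_0 : data.relOK [8,6,8,6] 0 2880 = true := by decide +kernel

theorem rel47_1 : data.relOK [8,6,8,6] 2880 2880 = true := by decide +kernel

theorem rel47_2 : data.relOK [8,6,8,6] 5760 2880 = true := by decide +kernel

theorem rel47_3 : data.relOK [8,6,8,6] 8640 2880 = true := by decide +kernel

theorem rel47_4 : data.relOK [8,6,8,6] 11520 2880 = true := by decide +kernel

theorem rel47_5 : data.relOK [8,6,8,6] 14400 2880 = true := by decide +kernel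

theorem rel47_6 : data.relOK [8,6,8,6] 17280 2880 = true := by decide +kernel

theorem rel47_7 : data.relOK [8,6,8,6] 20160 2880 = true := by decide +kernel

theorem rel47_8 : data.relOK [8,6,8,6] 23040 2880 = true := by decide +kernel

theorem rel47_9 : data.relOK [8,6,8,6] 25920 2880 = true := by decide +kernel

theorem rel47_10 : data.relOK [8,6,8,6] 28800 2871 = true := by decide +kernel

theorem rel48_0 : data.relOK [9,6,9,6] 0 2880 = true := by decide +kernel

theorem rel48_1 : data.relOK [9,6,9,6] 2880 2880 = true := by decide +kernel

theorem rel48_2 : data.relOK [9,6,9,6] 5760 2880 = true := by decide +kernel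

theorem rel48_3 : data.relOK [9,6,9,6] 8640 2880 = true := by decide +kernel

theorem rel48_4 : data.relOK [9,6,9,6] 11520 2880 = true := by decide +kernel

theorem rel48_5 : data.relOK [9,6,9,6] 14400 2880 = true := by decide +kernel

theorem rel48_6 : data.relOK [9,6,9,6] 17280 2880 = true := by decide +kernel

theorem rel48_7 : data.relOK [9,6,9,6] 20160 2880 = true := by decide +kernel

theorem rel48_8 : data.relOK [9,6,9,6] 23040 2880 = true := by decide +kernel

theorem rel48_9 : data.relOK [9,6,9,6] 25920 2880 = true := by decide +kernel

theorem rel48_10 : data.relOK [9,6,9,6] 28800 2871 = true := by decide +kernel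

theorem rel49_0 : data.relOK [7,7] 0 5279 = true := by decide +kernel

theorem rel49_1 : data.relOK [7,7] 5279 5279 = true := by decide +kernel

theorem rel49_2 : data.relOK [7,7] 10558 5279 = true := by decide +kernel

theorem rel49_3 : data.relOK [7,7] 15837 5279 = true := by decide +kernel

theorem rel49_4 : data.relOK [7,7] 21116 5279 = true := by decide +kernel

theorem rel49_5 : data.relOK [7,7] 26395 5276 = true := by decide +kernel

end

end Fi23Table
end H93
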