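import Mathlib
import Cfsg.Agent.H93.Fi23Table.Data

/-!
A checked coset table (generated data).
-/

set_option autoImplicit false
set_option maxRecDepth 100000
set_option linter.all false
set_option Elab.async false

namespace H93
namespace Fi23Table

open Coset

noncomputable section

theorem rel50_0 : data.relOK [8,7,8,7] 0 2880 = true := by decide +kernel

theorem rel50_1 : data.relOK [8,7,8,7] 2880 2880 = true := by decide +kernel

theorem rel50_2 : data.relOK [8,7,8,7] 5760 2880 = true := by decide +kernel

theorem rel50_3 : data.relOK [8,7,8,7] 8640 2880 = true := by decide +kernel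

theorem rel50_4 : data.relOK [8,7,8,7] 11520 2880 = true := by decide +kernel

theorem rel50_5 : data.relOK [8,7,8,7] 14400 2880 = true := by decide +kernel

theorem rel50_6 : data.relOK [8,7,8,7] 17280 2880 = true := by decide +kernel

theorem rel50_7 : data.relOK [8,7,8,7] 20160 2880 = true := by decide +kernel

theorem rel50_8 : data.relOK [8,7,8,7] 23040 2880 = true := by decide +kernel

theorem rel50_9 : data.relOK [8,7,8,7] 25920 2880 = true := by decide +kernel

theorem rel50_10 : data.relOK [8,7,8,7] 28800 2871 = true := by decide +kernel

theorem rel51_0 : data.relOK [9,7,9,7] 0 2880 = true := by decide +kernel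

theorem rel51_1 : data.relOK [9,7,9,7] 2880 2880 = true := by decide +kernel

theorem rel51_2 : data.relOK [9,7,9,7] 5760 2880 = true := by decide +kernel

theorem rel51_3 : data.relOK [9,7,9,7] 8640 2880 = true := by decide +kernel

theorem rel51_4 : data.relOK [9,7,9,7] 11520 2880 = true := by decide +kernel

theorem rel51_5 : data.relOK [9,7,9,7] 14400 2880 = true := by decide +kernel

theorem rel51_6 : data.relOK [9,7,9,7] 17280 2880 = true := by decide +kernel

theorem rel51_7 : data.relOK [9,7,9,7] 20160 2880 = true := by decide +kernel

theorem rel51_8 : data.relOK [9,7,9,7] 23040 2880 = true := by decide +kernel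

theorem rel51_9 : data.relOK [9,7,9,7] 25920 2880 = true := by decide +kernel

theorem rel51_10 : data.relOK [9,7,9,7] 28800 2871 = true := by decide +kernel

theorem rel52_0 : data.relOK [8,8] 0 5279 = true := by decide +kernel

theorem rel52_1 : data.relOK [8,8] 5279 5279 = true := by decide +kernel

theorem rel52_2 : data.relOK [8,8] 10558 5279 = true := by decide +kernel

theorem rel52_3 : data.relOK [8,8] 15837 5279 = true := by decide +kernel

theorem rel52_4 : data.relOK [8,8] 21116 5279 = true := by decide +kernel

theorem rel52_5 : data.relOK [8,8] 26395 5276 = true := by decide +kernel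

theorem rel53_0 : data.relOK [9,8,9,8,9,8] 0 1980 = true := by decide +kernel

theorem rel53_1 : data.relOK [9,8,9,8,9,8] 1980 1980 = true := by decide +kernel

theorem rel53_2 : data.relOK [9,8,9,8,9,8] 3960 1980 = true := by decide +kernel

theorem rel53_3 : data.relOK [9,8,9,8,9,8] 5940 1980 = true := by decide +kernel

theorem rel53_4 : data.relOK [9,8,9,8,9,8] 7920 1980 = true := by decide +kernel

theorem rel53_5 : data.relOK [9,8,9,8,9,8] 9900 1980 = true := by decide +kernel

theorem rel53_6 : data.relOK [9,8,9,8,9,8] 11880 1980 = true := by decide +kernel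

theorem rel53_7 : data.relOK [9,8,9,8,9,8] 13860 1980 = true := by decide +kernel

theorem rel53_8 : data.relOK [9,8,9,8,9,8] 15840 1980 = true := by decide +kernel

theorem rel53_9 : data.relOK [9,8,9,8,9,8] 17820 1980 = true := by decide +kernel

theorem rel53_10 : data.relOK [9,8,9,8,9,8] 19800 1980 = true := by decide +kernel

theorem rel53_11 : data.relOK [9,8,9,8,9,8] 21780 1980 = true := by decide +kernel

theorem rel53_12 : data.relOK [9,8,9,8,9,8] 23760 1980 = true := by decide +kernel

theorem rel53_13 : data.relOK [9,8,9,8,9,8] 25740 1980 = true := by decide +kernel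

theorem rel53_14 : data.relOK [9,8,9,8,9,8] 27720 1980 = true := by decide +kernel

theorem rel53_15 : data.relOK [9,8,9,8,9,8] 29700 1971 = true := by decide +kernel

theorem rel54_0 : data.relOK [9,9] 0 5279 = true := by decide +kernel

theorem rel54_1 : data.relOK [9,9] 5279 5279 = true := by decide +kernel

theorem rel54_2 : data.relOK [9,9] 10558 5279 = true := by decide +kernel

theorem rel54_3 : data.relOK [9,9] 15837 5279 = true := by decide +kernel

end

end Fi23Table
end H93
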