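import Mathlib
import Cfsg.Agent.H93.Fi23Table.Data

/-!
A checked coset table (generated data).
-/

set_option autoImplicit false
set_option maxRecDepth 100000
set_option linter.all false
set_option Elab.async false

namespace H93
namespace Fi23Table

open Coset

noncomputable section

theorem rel54_4 : data.relOK [9,9] 21116 5279 = true := by decide +kernel

theorem rel54_5 : data.relOK [9,9] 26395 5276 = true := by decide +kernel

theorem rel55_0 : data.powOK [9,8,3,5,4,3,1,2,3] 10 pw55 0 634 = true := by decide +kernel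

theorem rel55_1 : data.powOK [9,8,3,5,4,3,1,2,3] 10 pw55 634 634 = true := by decide +kernel

theorem rel55_2 : data.powOK [9,8,3,5,4,3,1,2,3] 10 pw55 1268 634 = true := by decide +kernel

theorem rel55_3 : data.powOK [9,8,3,5,4,3,1,2,3] 10 pw55 1902 634 = true := by decide +kernel

theorem rel55_4 : data.powOK [9,8,3,5,4,3,1,2,3] 10 pw55 2536 634 = true := by decide +kernel

theorem rel55_5 : data.powOK [9,8,3,5,4,3,1,2,3] 10 pw55 3170 634 = true := by decide +kernel

theorem rel55_6 : data.powOK [9,8,3,5,4,3,1,2,3] 10 pw55 3804 634 = true := by decide +kernel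

theorem rel55_7 : data.powOK [9,8,3,5,4,3,1,2,3] 10 pw55 4438 634 = true := by decide +kernel

theorem rel55_8 : data.powOK [9,8,3,5,4,3,1,2,3] 10 pw55 5072 634 = true := by decide +kernel

theorem rel55_9 : data.powOK [9,8,3,5,4,3,1,2,3] 10 pw55 5706 634 = true := by decide +kernel

theorem rel55_10 : data.powOK [9,8,3,5,4,3,1,2,3] 10 pw55 6340 634 = true := by decide +kernel

theorem rel55_11 : data.powOK [9,8,3,5,4,3,1,2,3] 10 pw55 6974 634 = true := by decide +kernel

theorem rel55_12 : data.powOK [9,8,3,5,4,3,1,2,3] 10 pw55 7608 634 = true := by decide +kernel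

theorem rel55_13 : data.powOK [9,8,3,5,4,3,1,2,3] 10 pw55 8242 634 = true := by decide +kernel

theorem rel55_14 : data.powOK [9,8,3,5,4,3,1,2,3] 10 pw55 8876 634 = true := by decide +kernel

theorem rel55_15 : data.powOK [9,8,3,5,4,3,1,2,3] 10 pw55 9510 634 = true := by decide +kernel

theorem rel55_16 : data.powOK [9,8,3,5,4,3,1,2,3] 10 pw55 10144 634 = true := by decide +kernel

theorem rel55_17 : data.powOK [9,8,3,5,4,3,1,2,3] 10 pw55 10778 634 = true := by decide +kernel

theorem rel55_18 : data.powOK [9,8,3,5,4,3,1,2,3] 10 pw55 11412 634 = true := by decide +kernel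

theorem rel55_19 : data.powOK [9,8,3,5,4,3,1,2,3] 10 pw55 12046 634 = true := by decide +kernel

theorem rel55_20 : data.powOK [9,8,3,5,4,3,1,2,3] 10 pw55 12680 634 = true := by decide +kernel

theorem rel55_21 : data.powOK [9,8,3,5,4,3,1,2,3] 10 pw55 13314 634 = true := by decide +kernel

theorem rel55_22 : data.powOK [9,8,3,5,4,3,1,2,3] 10 pw55 13948 634 = true := by decide +kernel

theorem rel55_23 : data.powOK [9,8,3,5,4,3,1,2,3] 10 pw55 14582 634 = true := by decide +kernel

theorem rel55_24 : data.powOK [9,8,3,5,4,3,1,2,3] 10 pw55 15216 634 = true := by decide +kernel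

theorem rel55_25 : data.powOK [9,8,3,5,4,3,1,2,3] 10 pw55 15850 634 = true := by decide +kernel

theorem rel55_26 : data.powOK [9,8,3,5,4,3,1,2,3] 10 pw55 16484 634 = true := by decide +kernel

theorem rel55_27 : data.powOK [9,8,3,5,4,3,1,2,3] 10 pw55 17118 634 = true := by decide +kernel

theorem rel55_28 : data.powOK [9,8,3,5,4,3,1,2,3] 10 pw55 17752 634 = true := by decide +kernel

theorem rel55_29 : data.powOK [9,8,3,5,4,3,1,2,3] 10 pw55 18386 634 = true := by decide +kernel

theorem rel55_30 : data.powOK [9,8,3,5,4,3,1,2,3] 10 pw55 19020 634 = true := by decide +kernel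

theorem rel55_31 : data.powOK [9,8,3,5,4,3,1,2,3] 10 pw55 19654 634 = true := by decide +kernel

theorem rel55_32 : data.powOK [9,8,3,5,4,3,1,2,3] 10 pw55 20288 634 = true := by decide +kernel

theorem rel55_33 : data.powOK [9,8,3,5,4,3,1,2,3] 10 pw55 20922 634 = true := by decide +kernel

theorem rel55_34 : data.powOK [9,8,3,5,4,3,1,2,3] 10 pw55 21556 634 = true := by decide +kernel

theorem rel55_35 : data.powOK [9,8,3,5,4,3,1,2,3] 10 pw55 22190 634 = true := by decide +kernel

theorem rel55_36 : data.powOK [9,8,3,5,4,3,1,2,3] 10 pw55 22824 634 = true := by decide +kernel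

theorem rel55_37 : data.powOK [9,8,3,5,4,3,1,2,3] 10 pw55 23458 634 = true := by decide +kernel

theorem rel55_38 : data.powOK [9,8,3,5,4,3,1,2,3] 10 pw55 24092 634 = true := by decide +kernel

theorem rel55_39 : data.powOK [9,8,3,5,4,3,1,2,3] 10 pw55 24726 634 = true := by decide +kernel

theorem rel55_40 : data.powOK [9,8,3,5,4,3,1,2,3] 10 pw55 25360 634 = true := by decide +kernel

theorem rel55_41 : data.powOK [9,8,3,5,4,3,1,2,3] 10 pw55 25994 634 = true := by decide +kernel

theorem rel55_42 : data.powOK [9,8,3,5,4,3,1,2,3] 10 pw55 26628 634 = true := by decide +kernel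

theorem rel55_43 : data.powOK [9,8,3,5,4,3,1,2,3] 10 pw55 27262 634 = true := by decide +kernel

theorem rel55_44 : data.powOK [9,8,3,5,4,3,1,2,3] 10 pw55 27896 634 = true := by decide +kernel

theorem rel55_45 : data.powOK [9,8,3,5,4,3,1,2,3] 10 pw55 28530 634 = true := by decide +kernel

end

end Fi23Table
end H93
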