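import Mathlib
import Cfsg.Agent.H93.Fi23Table.Data

/-!
A checked coset table (generated data).
-/

set_option autoImplicit false
set_option maxRecDepth 100000
set_option linter.all false
set_option Elab.async false

namespace H93
namespace Fi23Table

open Coset

noncomputable section

theorem rel55_46 : data.powOK [9,8,3,5,4,3,1,2,3] 10 pw55 29164 634 = true := by decide +kernel

theorem rel55_47 : data.powOK [9,8,3,5,4,3,1,2,3] 10 pw55 29798 634 = true := by decide +kernel

theorem rel55_48 : data.powOK [9,8,3,5,4,3,1,2,3] 10 pw55 30432 634 = true := by decide +kernel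

theorem rel55_49 : data.powOK [9,8,3,5,4,3,1,2,3] 10 pw55 31066 605 = true := by decide +kernel

theorem rel56_0 : data.powOK [8,5,4,3,2,1,0] 9 pw56 0 755 = true := by decide +kernel

theorem rel56_1 : data.powOK [8,5,4,3,2,1,0] 9 pw56 755 755 = true := by decide +kernel

theorem rel56_2 : data.powOK [8,5,4,3,2,1,0] 9 pw56 1510 755 = true := by decide +kernel

theorem rel56_3 : data.powOK [8,5,4,3,2,1,0] 9 pw56 2265 755 = true := by decide +kernel

theorem rel56_4 : data.powOK [8,5,4,3,2,1,0] 9 pw56 3020 755 = true := by decide +kernel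

theorem rel56_5 : data.powOK [8,5,4,3,2,1,0] 9 pw56 3775 755 = true := by decide +kernel

theorem rel56_6 : data.powOK [8,5,4,3,2,1,0] 9 pw56 4530 755 = true := by decide +kernel

theorem rel56_7 : data.powOK [8,5,4,3,2,1,0] 9 pw56 5285 755 = true := by decide +kernel

theorem rel56_8 : data.powOK [8,5,4,3,2,1,0] 9 pw56 6040 755 = true := by decide +kernel

theorem rel56_9 : data.powOK [8,5,4,3,2,1,0] 9 pw56 6795 755 = true := by decide +kernel

theorem rel56_10 : data.powOK [8,5,4,3,2,1,0] 9 pw56 7550 755 = true := by decide +kernel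

theorem rel56_11 : data.powOK [8,5,4,3,2,1,0] 9 pw56 8305 755 = true := by decide +kernel

theorem rel56_12 : data.powOK [8,5,4,3,2,1,0] 9 pw56 9060 755 = true := by decide +kernel

theorem rel56_13 : data.powOK [8,5,4,3,2,1,0] 9 pw56 9815 755 = true := by decide +kernel

theorem rel56_14 : data.powOK [8,5,4,3,2,1,0] 9 pw56 10570 755 = true := by decide +kernel

theorem rel56_15 : data.powOK [8,5,4,3,2,1,0] 9 pw56 11325 755 = true := by decide +kernel

theorem rel56_16 : data.powOK [8,5,4,3,2,1,0] 9 pw56 12080 755 = true := by decide +kernel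

theorem rel56_17 : data.powOK [8,5,4,3,2,1,0] 9 pw56 12835 755 = true := by decide +kernel

theorem rel56_18 : data.powOK [8,5,4,3,2,1,0] 9 pw56 13590 755 = true := by decide +kernel

theorem rel56_19 : data.powOK [8,5,4,3,2,1,0] 9 pw56 14345 755 = true := by decide +kernel

theorem rel56_20 : data.powOK [8,5,4,3,2,1,0] 9 pw56 15100 755 = true := by decide +kernel

theorem rel56_21 : data.powOK [8,5,4,3,2,1,0] 9 pw56 15855 755 = true := by decide +kernel

theorem rel56_22 : data.powOK [8,5,4,3,2,1,0] 9 pw56 16610 755 = true := by decide +kernel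

theorem rel56_23 : data.powOK [8,5,4,3,2,1,0] 9 pw56 17365 755 = true := by decide +kernel

theorem rel56_24 : data.powOK [8,5,4,3,2,1,0] 9 pw56 18120 755 = true := by decide +kernel

theorem rel56_25 : data.powOK [8,5,4,3,2,1,0] 9 pw56 18875 755 = true := by decide +kernel

theorem rel56_26 : data.powOK [8,5,4,3,2,1,0] 9 pw56 19630 755 = true := by decide +kernel

theorem rel56_27 : data.powOK [8,5,4,3,2,1,0] 9 pw56 20385 755 = true := by decide +kernel

theorem rel56_28 : data.powOK [8,5,4,3,2,1,0] 9 pw56 21140 755 = true := by decide +kernel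

theorem rel56_29 : data.powOK [8,5,4,3,2,1,0] 9 pw56 21895 755 = true := by decide +kernel

theorem rel56_30 : data.powOK [8,5,4,3,2,1,0] 9 pw56 22650 755 = true := by decide +kernel

theorem rel56_31 : data.powOK [8,5,4,3,2,1,0] 9 pw56 23405 755 = true := by decide +kernel

theorem rel56_32 : data.powOK [8,5,4,3,2,1,0] 9 pw56 24160 755 = true := by decide +kernel

theorem rel56_33 : data.powOK [8,5,4,3,2,1,0] 9 pw56 24915 755 = true := by decide +kernel

theorem rel56_34 : data.powOK [8,5,4,3,2,1,0] 9 pw56 25670 755 = true := by decide +kernel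

theorem rel56_35 : data.powOK [8,5,4,3,2,1,0] 9 pw56 26425 755 = true := by decide +kernel

theorem rel56_36 : data.powOK [8,5,4,3,2,1,0] 9 pw56 27180 755 = true := by decide +kernel

theorem rel56_37 : data.powOK [8,5,4,3,2,1,0] 9 pw56 27935 755 = true := by decide +kernel

theorem rel56_38 : data.powOK [8,5,4,3,2,1,0] 9 pw56 28690 755 = true := by decide +kernel

theorem rel56_39 : data.powOK [8,5,4,3,2,1,0] 9 pw56 29445 755 = true := by decide +kernel

theorem rel56_40 : data.powOK [8,5,4,3,2,1,0] 9 pw56 30200 755 = true := by decide +kernel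

theorem rel56_41 : data.powOK [8,5,4,3,2,1,0] 9 pw56 30955 716 = true := by decide +kernel

end

end Fi23Table
end H93
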