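import Mathlib
import Cfsg.Agent.H93.Fi23Table.Data

/-!
A checked coset table (generated data).
-/

set_option autoImplicit false
set_option maxRecDepth 100000
set_option linter.all false
set_option Elab.async false

namespace H93
namespace Fi23Table

open Coset

noncomputable section

theorem edge9_27 : data.edgesOK 9 19008 704 = true := by decide +kernel

theorem edge9_28 : data.edgesOK 9 19712 704 = true := by decide +kernel

theorem edge9_29 : data.edgesOK 9 20416 704 = true := by decide +kernel

theorem edge9_30 : data.edgesOK 9 21120 704 = true := by decide +kernel

theorem edge9_31 : data.edgesOK 9 21824 704 = true := by decide +kernel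

theorem edge9_32 : data.edgesOK 9 22528 704 = true := by decide +kernel

theorem edge9_33 : data.edgesOK 9 23232 704 = true := by decide +kernel

theorem edge9_34 : data.edgesOK 9 23936 704 = true := by decide +kernel

theorem edge9_35 : data.edgesOK 9 24640 704 = true := by decide +kernel

theorem edge9_36 : data.edgesOK 9 25344 704 = true := by decide +kernel

theorem edge9_37 : data.edgesOK 9 26048 704 = true := by decide +kernel

theorem edge9_38 : data.edgesOK 9 26752 704 = true := by decide +kernel

theorem edge9_39 : data.edgesOK 9 27456 704 = true := by decide +kernel

theorem edge9_40 : data.edgesOK 9 28160 704 = true := by decide +kernel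

theorem edge9_41 : data.edgesOK 9 28864 704 = true := by decide +kernel

theorem edge9_42 : data.edgesOK 9 29568 704 = true := by decide +kernel

theorem edge9_43 : data.edgesOK 9 30272 704 = true := by decide +kernel

theorem edge9_44 : data.edgesOK 9 30976 695 = true := by decide +kernel

theorem treeRow_0 : treeOK data 0 3959 = true := by decide +kernel

theorem treeRow_1 : treeOK data 3959 3959 = true := by decide +kernel

theorem treeRow_2 : treeOK data 7918 3959 = true := by decide +kernel

theorem treeRow_3 : treeOK data 11877 3959 = true := by decide +kernel

theorem treeRow_4 : treeOK data 15836 3959 = true := by decide +kernel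

theorem treeRow_5 : treeOK data 19795 3959 = true := by decide +kernel

theorem treeRow_6 : treeOK data 23754 3959 = true := by decide +kernel

theorem treeRow_7 : treeOK data 27713 3958 = true := by decide +kernel

theorem rel0_0 : data.relOK [0,0] 0 5279 = true := by decide +kernel

theorem rel0_1 : data.relOK [0,0] 5279 5279 = true := by decide +kernel

theorem rel0_2 : data.relOK [0,0] 10558 5279 = true := by decide +kernel

theorem rel0_3 : data.relOK [0,0] 15837 5279 = true := by decide +kernel

theorem rel0_4 : data.relOK [0,0] 21116 5279 = true := by decide +kernel

theorem rel0_5 : data.relOK [0,0] 26395 5276 = true := by decide +kernel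

theorem rel1_0 : data.relOK [1,0,1,0,1,0] 0 1980 = true := by decide +kernel

theorem rel1_1 : data.relOK [1,0,1,0,1,0] 1980 1980 = true := by decide +kernel

theorem rel1_2 : data.relOK [1,0,1,0,1,0] 3960 1980 = true := by decide +kernel

theorem rel1_3 : data.relOK [1,0,1,0,1,0] 5940 1980 = true := by decide +kernel

theorem rel1_4 : data.relOK [1,0,1,0,1,0] 7920 1980 = true := by decide +kernel

theorem rel1_5 : data.relOK [1,0,1,0,1,0] 9900 1980 = true := by decide +kernel

theorem rel1_6 : data.relOK [1,0,1,0,1,0] 11880 1980 = true := by decide +kernel

theorem rel1_7 : data.relOK [1,0,1,0,1,0] 13860 1980 = true := by decide +kernel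

theorem rel1_8 : data.relOK [1,0,1,0,1,0] 15840 1980 = true := by decide +kernel

theorem rel1_9 : data.relOK [1,0,1,0,1,0] 17820 1980 = true := by decide +kernel

theorem rel1_10 : data.relOK [1,0,1,0,1,0] 19800 1980 = true := by decide +kernel

theorem rel1_11 : data.relOK [1,0,1,0,1,0] 21780 1980 = true := by decide +kernel

theorem rel1_12 : data.relOK [1,0,1,0,1,0] 23760 1980 = true := by decide +kernel

theorem rel1_13 : data.relOK [1,0,1,0,1,0] 25740 1980 = true := by decide +kernel

theorem rel1_14 : data.relOK [1,0,1,0,1,0] 27720 1980 = true := by decide +kernel

theorem rel1_15 : data.relOK [1,0,1,0,1,0] 29700 1971 = true := by decide +kernel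

end

end Fi23Table
end H93
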