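import Mathlib
import Cfsg.Agent.H93.Fi23Table.Data

/-!
A checked coset table (generated data).
-/

set_option autoImplicit false
set_option maxRecDepth 100000
set_option linter.all false
set_option Elab.async false

namespace H93
namespace Fi23Table

open Coset

noncomputable section

theorem rel19_5 : data.relOK [2,2] 26395 5276 = true := by decide +kernel

theorem rel20_0 : data.relOK [3,2,3,2,3,2] 0 1980 = true := by decide +kernel

theorem rel20_1 : data.relOK [3,2,3,2,3,2] 1980 1980 = true := by decide +kernel

theorem rel20_2 : data.relOK [3,2,3,2,3,2] 3960 1980 = true := by decide +kernel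

theorem rel20_3 : data.relOK [3,2,3,2,3,2] 5940 1980 = true := by decide +kernel

theorem rel20_4 : data.relOK [3,2,3,2,3,2] 7920 1980 = true := by decide +kernel

theorem rel20_5 : data.relOK [3,2,3,2,3,2] 9900 1980 = true := by decide +kernel

theorem rel20_6 : data.relOK [3,2,3,2,3,2] 11880 1980 = true := by decide +kernel

theorem rel20_7 : data.relOK [3,2,3,2,3,2] 13860 1980 = true := by decide +kernel

theorem rel20_8 : data.relOK [3,2,3,2,3,2] 15840 1980 = true := by decide +kernel

theorem rel20_9 : data.relOK [3,2,3,2,3,2] 17820 1980 = true := by decide +kernel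

theorem rel20_10 : data.relOK [3,2,3,2,3,2] 19800 1980 = true := by decide +kernel

theorem rel20_11 : data.relOK [3,2,3,2,3,2] 21780 1980 = true := by decide +kernel

theorem rel20_12 : data.relOK [3,2,3,2,3,2] 23760 1980 = true := by decide +kernel

theorem rel20_13 : data.relOK [3,2,3,2,3,2] 25740 1980 = true := by decide +kernel

theorem rel20_14 : data.relOK [3,2,3,2,3,2] 27720 1980 = true := by decide +kernel

theorem rel20_15 : data.relOK [3,2,3,2,3,2] 29700 1971 = true := by decide +kernel

theorem rel21_0 : data.relOK [4,2,4,2] 0 2880 = true := by decide +kernel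

theorem rel21_1 : data.relOK [4,2,4,2] 2880 2880 = true := by decide +kernel

theorem rel21_2 : data.relOK [4,2,4,2] 5760 2880 = true := by decide +kernel

theorem rel21_3 : data.relOK [4,2,4,2] 8640 2880 = true := by decide +kernel

theorem rel21_4 : data.relOK [4,2,4,2] 11520 2880 = true := by decide +kernel

theorem rel21_5 : data.relOK [4,2,4,2] 14400 2880 = true := by decide +kernel

theorem rel21_6 : data.relOK [4,2,4,2] 17280 2880 = true := by decide +kernel

theorem rel21_7 : data.relOK [4,2,4,2] 20160 2880 = true := by decide +kernel

theorem rel21_8 : data.relOK [4,2,4,2] 23040 2880 = true := by decide +kernel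

theorem rel21_9 : data.relOK [4,2,4,2] 25920 2880 = true := by decide +kernel

theorem rel21_10 : data.relOK [4,2,4,2] 28800 2871 = true := by decide +kernel

theorem rel22_0 : data.relOK [5,2,5,2] 0 2880 = true := by decide +kernel

theorem rel22_1 : data.relOK [5,2,5,2] 2880 2880 = true := by decide +kernel

theorem rel22_2 : data.relOK [5,2,5,2] 5760 2880 = true := by decide +kernel

theorem rel22_3 : data.relOK [5,2,5,2] 8640 2880 = true := by decide +kernel

theorem rel22_4 : data.relOK [5,2,5,2] 11520 2880 = true := by decide +kernel

theorem rel22_5 : data.relOK [5,2,5,2] 14400 2880 = true := by decide +kernel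

theorem rel22_6 : data.relOK [5,2,5,2] 17280 2880 = true := by decide +kernel

theorem rel22_7 : data.relOK [5,2,5,2] 20160 2880 = true := by decide +kernel

theorem rel22_8 : data.relOK [5,2,5,2] 23040 2880 = true := by decide +kernel

theorem rel22_9 : data.relOK [5,2,5,2] 25920 2880 = true := by decide +kernel

theorem rel22_10 : data.relOK [5,2,5,2] 28800 2871 = true := by decide +kernel

theorem rel23_0 : data.relOK [6,2,6,2] 0 2880 = true := by decide +kernel

theorem rel23_1 : data.relOK [6,2,6,2] 2880 2880 = true := by decide +kernel

theorem rel23_2 : data.relOK [6,2,6,2] 5760 2880 = true := by decide +kernel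

theorem rel23_3 : data.relOK [6,2,6,2] 8640 2880 = true := by decide +kernel

theorem rel23_4 : data.relOK [6,2,6,2] 11520 2880 = true := by decide +kernel

theorem rel23_5 : data.relOK [6,2,6,2] 14400 2880 = true := by decide +kernel

theorem rel23_6 : data.relOK [6,2,6,2] 17280 2880 = true := by decide +kernel

theorem rel23_7 : data.relOK [6,2,6,2] 20160 2880 = true := by decide +kernel

theorem rel23_8 : data.relOK [6,2,6,2] 23040 2880 = true := by decide +kernel

end

end Fi23Table
end H93
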